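import Cfsg.Agent.Lib.Golay.Trios
import Cfsg.Agent.Lib.GolayPointed.Data

/-!
# Stabilisers of points and an octad or a duad: invariants
-/

set_option autoImplicit false
set_option maxRecDepth 20000

namespace CfsgLib.GolayPointed

open Cfsg CfsgLib.Golay
open scoped Pointwise

/-- Two points and a set. -/
abbrev Conf : Type := GolayPt × GolayPt × Finset GolayPt

theorem conf_smul (g : M24) (b : Conf) :
    g • b = ((g : Equiv.Perm GolayPt) b.1, (g : Equiv.Perm GolayPt) b.2.1,
      (g : Equiv.Perm GolayPt) • b.2.2) := rfl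

/-- Unpack a search tree. -/
def unpackTree (c : List ℕ) : List (ℕ × ℕ × ℕ) :=
  c.map fun v => (Nat.shiftRight v 32, Nat.land (Nat.shiftRight v 28) 15, Nat.land v 268435455)

/-- Unpack a table of classes. -/
def unpackTable (cs : List (ℕ × ℕ × ℕ × List ℕ)) : List (ℕ × ℕ × ℕ × List (ℕ × ℕ × ℕ)) :=
  cs.map fun d => (d.1, d.2.1, d.2.2.1, unpackTree d.2.2.2)

/-- A configuration from positions and a mask. -/
def confOf (P Q : Fin 24) (om : ℕ) : Conf := (pt P, pt Q, decS om)

/-- The test that a list fixes a configuration. -/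
def fixConf (P Q : Fin 24) (om : ℕ) (l : List ℕ) : Bool :=
  Nat.beq (l.getD P.val 0) P.val && Nat.beq (l.getD Q.val 0) Q.val && Nat.beq (pmap l om) om

theorem fixConf_spec (P Q : Fin 24) (om : ℕ) (hom : om < 2 ^ 24) (g : M24)
    (h : fixConf P Q om (toList (g : Equiv.Perm GolayPt)) = true) : g • confOf P Q om = confOf P Q om := by
  simp only [fixConf, Bool.and_eq_true] at h
  obtain ⟨⟨h1, h2⟩, h3⟩ := h
  have hp : ∀ R : Fin 24, Nat.beq ((toList (g : Equiv.Perm GolayPt)).getD R.val 0) R.val = true →
      (g : Equiv.Perm GolayPt) (pt R) = pt R := by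
    intro R hR
    have := Nat.eq_of_beq_eq_true hR
    conv_lhs at this => rw [← idx_pt R, toList_getD]
    exact idx_injective (by rw [idx_pt]; exact Fin.ext this)
  rw [conf_smul]
  simp only [confOf, hp P h1, hp Q h2, smul_decS _ hom, Nat.eq_of_beq_eq_true h3]

/-- The invariant of a set in the presence of a configuration. -/
def confKey (b : Conf) (X : Finset GolayPt) : ℕ :=
  ((if b.1 ∈ X then 1 else 0) + 2 * (if b.2.1 ∈ X then 1 else 0)) + 4 * (b.2.2 ∩ X).card

theorem confKey_smul (g : M24) (b : Conf) (X : Finset GolayPt) : confKey (g • b) (g • X) = confKey b X := by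
  rw [conf_smul]
  show confKey _ ((g : Equiv.Perm GolayPt) • X) = _
  simp only [confKey, ← Finset.smul_finset_inter, Finset.card_smul_finset, ← Equiv.Perm.smul_def,
    Finset.smul_mem_smul_finset_iff]

/-- The same on masks. -/
def confKeyN (P Q : Fin 24) (om n : ℕ) : ℕ :=
  Nat.add (Nat.add (Nat.land (Nat.shiftRight n P.val) 1)
    (Nat.mul 2 (Nat.land (Nat.shiftRight n Q.val) 1))) (Nat.mul 4 (popc (Nat.land om n)))

theorem confKey_decS (P Q : Fin 24) {om n : ℕ} (hom : om < 2 ^ 24) (hn : n < 2 ^ 24) :
    confKey (confOf P Q om) (decS n) = confKeyN P Q om n := by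
  have hb : ∀ R : Fin 24, (if pt R ∈ decS n then 1 else 0 : ℕ) = Nat.land (Nat.shiftRight n R.val) 1 := by
    intro R
    show _ = (n >>> R.val) &&& 1
    rw [Nat.shiftRight_eq_div_pow, Nat.and_one_is_mod]
    have hm : pt R ∈ decS n ↔ n / 2 ^ R.val % 2 = 1 := by
      rw [mem_decS, idx_pt, Nat.testBit_eq_decide_div_mod_eq, decide_eq_true_eq]
    by_cases h : pt R ∈ decS n
    · rw [if_pos h, hm.mp h]
    · rw [if_neg h]
      rcases Nat.mod_two_eq_zero_or_one (n / 2 ^ R.val) with h' | h'
      · rw [h']
      · exact absurd (hm.mpr h') h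
  show _ + 4 * (decS om ∩ decS n).card = _
  rw [show (decS om ∩ decS n).card = popc (Nat.land om n) from by
    rw [← popc_encS, encS_inter, encS_decS hom, encS_decS hn]; rfl]
  show (if pt P ∈ decS n then 1 else 0) + 2 * (if pt Q ∈ decS n then 1 else 0) + 4 * _ = _
  rw [hb, hb]
  rfl

/-- Octads, under the stabiliser of a configuration. -/
def invConfOct (P Q : Fin 24) (om : ℕ) (hom : om < 2 ^ 24) : Invariant octK (confOf P Q om) where
  φ := confKey (confOf P Q om)
  kφ k := confKeyN P Q om (codeWord k)
  inv g hg X _ := by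
    conv_lhs => rw [← hg]
    exact confKey_smul g _ X
  spec k _ := confKey_decS P Q hom (codeWord_lt k)

/-! ### Pairs of points -/

/-- The masks of the pairs. -/
def pairMasks : List ℕ :=
  (List.range 24).flatMap fun i => (List.range i).map fun j => Nat.lor (Nat.shiftLeft 1 i) (Nat.shiftLeft 1 j)

theorem pairMasks_nodup : pairMasks.Nodup := by decide +kernel

theorem pairMasks_spec : pairMasks.all (fun n => Nat.blt n 16777216 && Nat.beq (popc n) 2) = true := by
  decide +kernel

theorem pairMasks_complete : ∀ a b : GolayPt, a ≠ b → encS ({a, b} : Finset GolayPt) ∈ pairMasks := by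
  decide +kernel

theorem pairMasks_lt {n : ℕ} (hn : n ∈ pairMasks) : n < 2 ^ 24 := by
  have := List.all_eq_true.mp pairMasks_spec n hn
  rw [Bool.and_eq_true] at this
  exact Nat.le_of_ble_eq_true this.1

theorem pairs_eq : {t : Finset GolayPt | t.card = 2} = decS '' {n | n ∈ pairMasks} := by
  ext t
  constructor
  · intro ht
    obtain ⟨a, b, hab, rfl⟩ := Finset.card_eq_two.mp ht
    exact ⟨_, pairMasks_complete a b hab, decS_encS _⟩
  · rintro ⟨n, hn, rfl⟩
    have := List.all_eq_true.mp pairMasks_spec n hn
    rw [Bool.and_eq_true] at this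
    show (decS n).card = 2
    rw [card_decS (pairMasks_lt hn), Nat.eq_of_beq_eq_true this.2]

/-- The pairs of points. -/
def pairK : Keyed (Finset GolayPt) {t : Finset GolayPt | t.card = 2} where
  W := pairMasks
  key := id
  dec := decS
  step l k y := Nat.beq (pmap l k) y
  nodup := by rw [List.map_id]; exact pairMasks_nodup
  eq_image := by rw [List.map_id]; exact pairs_eq
  injOn := by
    rw [List.map_id]
    intro a ha b hb hab
    rw [← encS_decS (pairMasks_lt ha), hab, encS_decS (pairMasks_lt hb)]
  step_spec g k y hk hst := by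
    rw [List.map_id] at hk ⊢
    have e : (g : Equiv.Perm GolayPt) • decS k = decS y := by
      rw [smul_decS _ (pairMasks_lt hk), Nat.eq_of_beq_eq_true hst]
    refine ⟨e, ?_⟩
    have h2 : ((g : Equiv.Perm GolayPt) • decS k).card = 2 := by
      rw [Finset.card_smul_finset]
      exact pairs_eq.ge ⟨k, hk, rfl⟩
    obtain ⟨a, b, hab, hab'⟩ := Finset.card_eq_two.mp h2
    have hy : y < 2 ^ 24 := by
      rw [← Nat.eq_of_beq_eq_true hst, ← encS_decS (pairMasks_lt hk), ← encS_smul]
      exact encS_lt _
    have := pairMasks_complete a b hab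
    rwa [← hab', e, encS_decS hy] at this
  smul_mem g X (hX : X.card = 2) := by
    show ((g : Equiv.Perm GolayPt) • X).card = 2
    rw [Finset.card_smul_finset, hX]

/-- Some octad holds the two points, the duad and the pair. -/
def InOctad (b : Conf) (t : Finset GolayPt) : Prop :=
  ∃ o ∈ octads, b.1 ∈ o ∧ b.2.1 ∈ o ∧ b.2.2 ∪ t ⊆ o

open Classical in
/-- The invariant of a pair. -/
noncomputable def duadKey (b : Conf) (t : Finset GolayPt) : ℕ :=
  confKey b t + 16 * (if InOctad b t then 1 else 0)

theorem inOctad_smul_of (g : M24) {b : Conf} {t : Finset GolayPt} (h : InOctad b t) :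
    InOctad (g • b) (g • t) := by
  obtain ⟨o, ho, h1, h2, h3⟩ := h
  refine ⟨(g : Equiv.Perm GolayPt) • o, smul_mem_octads g.2 ho, ?_, ?_, ?_⟩
  · exact Finset.smul_mem_smul_finset (a := (g : Equiv.Perm GolayPt)) h1
  · exact Finset.smul_mem_smul_finset (a := (g : Equiv.Perm GolayPt)) h2
  · show (g : Equiv.Perm GolayPt) • b.2.2 ∪ (g : Equiv.Perm GolayPt) • t ⊆ _
    rw [← Finset.smul_finset_union]
    exact Finset.smul_finset_subset_smul_finset h3

theorem duadKey_smul (g : M24) (b : Conf) (t : Finset GolayPt) : duadKey (g • b) (g • t) = duadKey b t := by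
  have : InOctad (g • b) (g • t) ↔ InOctad b t := by
    refine ⟨fun h => ?_, inOctad_smul_of g⟩
    have := inOctad_smul_of g⁻¹ h
    rwa [inv_smul_smul, inv_smul_smul] at this
  unfold duadKey
  rw [confKey_smul]
  by_cases h : InOctad b t
  · rw [if_pos h, if_pos (this.mpr h)]
  · rw [if_neg h, if_neg (fun h' => h (this.mp h'))]

/-- The mask of the four reference points. -/
def fourMask : ℕ := 8388615

/-- The five octads through the four reference points. -/
def fourOctads : List ℕ := [12656663, 8536111, 11010247, 9471495, 8657159]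

theorem fourOctads_spec :
    fourOctads.all (fun n => isCode n && Nat.beq (popc n) 8 && Nat.blt n 16777216 &&
      Nat.beq (Nat.land fourMask n) fourMask) = true ∧
    octKeys.all (fun k => !Nat.beq (Nat.land fourMask (codeWord k)) fourMask || fourOctads.contains (codeWord k))
      = true := by decide +kernel

/-- The reference configuration with a duad. -/
def baseDuad : Conf := confOf 23 0 6

theorem inOctad_base_iff {n : ℕ} (hn : n < 2 ^ 24) :
    InOctad baseDuad (decS n) ↔
      fourOctads.any (fun o => Nat.beq (Nat.land (Nat.lor fourMask n) o) (Nat.lor fourMask n)) = true := by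
  have hu : ∀ o : Finset GolayPt, (baseDuad.1 ∈ o ∧ baseDuad.2.1 ∈ o ∧ baseDuad.2.2 ∪ decS n ⊆ o) ↔
      decS fourMask ∪ decS n ⊆ o := by
    have hf : decS fourMask = insert baseDuad.1 (insert baseDuad.2.1 baseDuad.2.2) := by decide +kernel
    intro o
    rw [hf]
    simp only [Finset.union_subset_iff, Finset.insert_subset_iff, and_assoc]
  have henc : encS (decS fourMask ∪ decS n) = Nat.lor fourMask n := by
    refine mask_ext (fun p => ?_) (fun i hi => ?_)
    · show _ = (fourMask ||| n).testBit _
      rw [Nat.testBit_or, testBit_encS]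
      simp [mem_decS]
    · show _ = (fourMask ||| n).testBit _
      rw [testBit_encS_ge _ hi, Nat.testBit_or, testBit_eq_false_of_lt (by norm_num [fourMask]) hi,
        testBit_eq_false_of_lt hn hi]
      rfl
  have hsub : ∀ o : Finset GolayPt, decS fourMask ∪ decS n ⊆ o ↔
      Nat.beq (Nat.land (Nat.lor fourMask n) (encS o)) (Nat.lor fourMask n) = true := by
    intro o
    rw [subset_iff_and, henc]
    exact ⟨fun h => by rw [show Nat.land (Nat.lor fourMask n) (encS o) = _ from h]; exact Nat.beq_refl _,
      Nat.eq_of_beq_eq_true⟩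
  obtain ⟨h1, h2⟩ := fourOctads_spec
  rw [List.any_eq_true]
  constructor
  · rintro ⟨o, ho, h⟩
    have h' := (hu o).mp h
    obtain ⟨k, hk, rfl⟩ := octads_eq.le ho
    refine ⟨codeWord k, ?_, by rw [← encS_codeSet]; exact (hsub _).mp h'⟩
    have hb := List.all_eq_true.mp h2 k hk
    have hfour : Nat.beq (Nat.land fourMask (codeWord k)) fourMask = true := by
      have := subset_iff_and.mp (Finset.union_subset_left h')
      rw [encS_decS (by norm_num [fourMask]), encS_codeSet] at this
      rw [show Nat.land fourMask (codeWord k) = _ from this]; exact Nat.beq_refl _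
    rw [hfour] at hb
    simpa using hb
  · rintro ⟨o, ho, h⟩
    have hb := List.all_eq_true.mp h1 o ho
    simp only [Bool.and_eq_true] at hb
    have hlt : o < 2 ^ 24 := Nat.le_of_ble_eq_true hb.1.2
    refine ⟨decS o, ?_, (hu _).mpr ((hsub _).mpr (by rw [encS_decS hlt]; exact h))⟩
    rw [mem_octads, encS_decS hlt]
    exact ⟨hb.1.1.1, Nat.eq_of_beq_eq_true hb.1.1.2⟩

/-- The same on masks. -/
def duadKeyN (n : ℕ) : ℕ :=
  Nat.add (confKeyN 23 0 6 n)
    (Nat.mul 16 (if fourOctads.any (fun o => Nat.beq (Nat.land (Nat.lor fourMask n) o) (Nat.lor fourMask n))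
      then 1 else 0))

/-- Pairs, under the stabiliser of two points and a duad. -/
noncomputable def invDuad : Invariant pairK baseDuad where
  φ := duadKey baseDuad
  kφ := duadKeyN
  inv g hg X _ := by
    conv_lhs => rw [← hg]
    exact duadKey_smul g _ X
  spec n hn := by
    show duadKey baseDuad (decS n) = _
    rw [duadKey, show confKey baseDuad (decS n) = confKeyN 23 0 6 n from
      confKey_decS 23 0 (by norm_num) (pairMasks_lt hn)]
    have := inOctad_base_iff (pairMasks_lt hn)
    unfold duadKeyN
    by_cases h : InOctad baseDuad (decS n)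
    · rw [if_pos h, if_pos (this.mp h)]
      try rfl
    · rw [if_neg h, if_neg (fun h' => h (this.mpr h'))]
      try rfl

end CfsgLib.GolayPointed
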