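import Mathlib

/-!
# An orbit of PSL(2, 23) on dodecads, by keys
-/

set_option autoImplicit false

namespace CfsgLib.GolayPointed

/-- The 506 keys of an orbit of PSL(2, 23) on dodecads. -/
def linearDodKeys : List ℕ := [
  31, 45, 51, 62, 63, 71, 80, 91, 102, 125, 126, 142, 161, 177,
  178, 180, 182, 205, 222, 229, 239, 250, 252, 257, 277, 285, 292, 314,
  319, 323, 327, 342, 355, 356, 357, 361, 364, 366, 410, 413, 414, 421,
  426, 444, 453, 459, 466, 471, 475, 477, 479, 489, 501, 504, 505, 515,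
  540, 554, 563, 570, 571, 585, 587, 607, 616, 628, 638, 646, 647, 654,
  675, 684, 685, 711, 712, 715, 716, 721, 723, 727, 729, 732, 736, 741,
  748, 756, 763, 779, 787, 793, 813, 814, 820, 825, 827, 829, 834, 836,
  839, 842, 843, 852, 883, 888, 901, 907, 918, 920, 932, 934, 942, 945,
  950, 954, 959, 978, 979, 1003, 1008, 1011, 1012, 1031, 1041, 1068, 1079, 1081,
  1083, 1103, 1109, 1127, 1130, 1137, 1141, 1142, 1143, 1150, 1166, 1170, 1175, 1178,
  1185, 1192, 1203, 1209, 1214, 1227, 1230, 1232, 1233, 1244, 1249, 1257, 1277, 1293,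
  1294, 1308, 1309, 1322, 1330, 1351, 1354, 1356, 1369, 1370, 1382, 1386, 1393, 1423,
  1425, 1431, 1432, 1434, 1443, 1446, 1451, 1455, 1458, 1464, 1472, 1476, 1479, 1482,
  1496, 1506, 1508, 1513, 1527, 1541, 1558, 1575, 1580, 1587, 1597, 1606, 1626, 1628,
  1629, 1630, 1635, 1640, 1641, 1651, 1654, 1658, 1666, 1669, 1673, 1677, 1679, 1684,
  1687, 1689, 1705, 1710, 1724, 1739, 1744, 1754, 1762, 1766, 1777, 1795, 1803, 1809,
  1810, 1812, 1814, 1821, 1834, 1837, 1840, 1841, 1864, 1869, 1876, 1884, 1888, 1890,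
  1901, 1909, 1919, 1928, 1933, 1936, 1957, 1958, 1959, 2007, 2012, 2016, 2022, 2025,
  2032, 2063, 2070, 2073, 2079, 2083, 2088, 2136, 2137, 2138, 2159, 2162, 2167, 2176,
  2186, 2194, 2205, 2207, 2211, 2219, 2226, 2231, 2254, 2255, 2258, 2261, 2274, 2281,
  2283, 2285, 2286, 2292, 2300, 2318, 2329, 2333, 2341, 2351, 2356, 2371, 2385, 2390,
  2406, 2408, 2411, 2416, 2418, 2422, 2426, 2429, 2437, 2441, 2444, 2454, 2455, 2460,
  2465, 2466, 2467, 2469, 2489, 2498, 2508, 2515, 2520, 2537, 2554, 2568, 2582, 2587,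
  2589, 2599, 2613, 2616, 2619, 2623, 2631, 2637, 2640, 2644, 2649, 2652, 2661, 2663,
  2664, 2670, 2672, 2702, 2709, 2713, 2725, 2726, 2739, 2741, 2744, 2765, 2773, 2786,
  2787, 2801, 2802, 2818, 2838, 2846, 2851, 2862, 2863, 2865, 2868, 2881, 2886, 2892,
  2903, 2910, 2917, 2920, 2925, 2929, 2945, 2952, 2953, 2954, 2958, 2965, 2968, 2986,
  2992, 3012, 3014, 3016, 3027, 3054, 3064, 3083, 3084, 3087, 3092, 3116, 3117, 3136,
  3141, 3145, 3150, 3153, 3161, 3163, 3175, 3177, 3188, 3194, 3207, 3212, 3243, 3252,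
  3253, 3256, 3259, 3261, 3266, 3268, 3270, 3275, 3281, 3282, 3302, 3308, 3316, 3332,
  3339, 3347, 3354, 3359, 3363, 3366, 3368, 3372, 3374, 3379, 3380, 3383, 3384, 3410,
  3411, 3420, 3441, 3448, 3449, 3457, 3467, 3479, 3488, 3508, 3510, 3524, 3525, 3532,
  3541, 3555, 3580, 3590, 3591, 3594, 3606, 3616, 3618, 3620, 3624, 3629, 3636, 3642,
  3651, 3669, 3674, 3681, 3682, 3685, 3729, 3731, 3734, 3738, 3739, 3740, 3753, 3768,
  3772, 3776, 3781, 3803, 3810, 3818, 3838, 3843, 3845, 3856, 3866, 3873, 3890, 3913,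
  3915, 3917, 3918, 3934, 3953, 3969, 3970, 3993, 4004, 4015, 4024, 4032, 4033, 4044,
  4050, 4064]

end CfsgLib.GolayPointed
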