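import Cfsg.Agent.Lib.GolayPointed.Tables
import Cfsg.Agent.Lib.Golay.OrbitApps

/-!
# Orbits of stabilisers of points and an octad or a duad
-/

set_option autoImplicit false

namespace CfsgLib.GolayPointed

open Cfsg CfsgLib.Golay
open scoped Pointwise

/-- What a table says at a configuration. -/
def Facts (U : Set (Finset GolayPt)) (φ : Conf → Finset GolayPt → ℕ)
    (classes : List (ℕ × ℕ × ℕ × List (ℕ × ℕ × ℕ))) (b : Conf) : Prop :=
  (∀ c n, (c, n) ∈ classes.map (fun d => (d.1, d.2.1)) → {X | X ∈ U ∧ φ b X = c}.ncard = n) ∧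
    ∀ X Y, X ∈ U → Y ∈ U → φ b X = φ b Y → ∃ g : M24, g • b = b ∧ g • X = Y

variable {U : Set (Finset GolayPt)} {K : Keyed (Finset GolayPt) U} {base : Conf}

/-- A checked table, read at any conjugate of its configuration. -/
theorem transfer (φ : Conf → Finset GolayPt → ℕ) (hφ : ∀ (g : M24) b X, φ (g • b) (g • X) = φ b X)
    (I : Invariant K base) (hI : ∀ X, I.φ X = φ base X) {gens : List (List ℕ)}
    (hgens : ∀ l ∈ gens, ∃ g : M24, toList (g : Equiv.Perm GolayPt) = l ∧ g • base = base)
    {classes : List (ℕ × ℕ × ℕ × List (ℕ × ℕ × ℕ))}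
    (h : orbitsOK K.W K.key I.kφ K.step gens classes = true) {b : Conf} (hb : ∃ g : M24, g • base = b) :
    Facts U φ classes b := by
  obtain ⟨g, rfl⟩ := hb
  refine ⟨fun c n hcn => ?_, fun X Y hX hY hXY => ?_⟩
  · have : {X | X ∈ U ∧ φ (g • base) X = c} = (g • ·) '' {X | X ∈ U ∧ I.φ X = c} := by
      ext X
      constructor
      · rintro ⟨hX, hc⟩
        refine ⟨g⁻¹ • X, ⟨K.smul_mem _ _ hX, ?_⟩, smul_inv_smul g X⟩
        rw [hI, ← hφ g, smul_inv_smul, hc]
      · rintro ⟨Z, ⟨hZ, hc⟩, rfl⟩
        exact ⟨K.smul_mem _ _ hZ, (hφ g base Z).trans ((hI Z).symm.trans hc)⟩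
    rw [this, Set.ncard_image_of_injective _ (MulAction.injective g)]
    exact (I.class_facts hgens h hcn).1
  · have hX' := K.smul_mem g⁻¹ X hX
    have hY' := K.smul_mem g⁻¹ Y hY
    have hc : I.φ (g⁻¹ • Y) = I.φ (g⁻¹ • X) := by
      rw [hI, hI, ← hφ g, ← hφ g base (g⁻¹ • X), smul_inv_smul, smul_inv_smul, hXY]
    obtain ⟨n, hn⟩ : ∃ n, (I.φ (g⁻¹ • X), n) ∈ classes.map fun d => (d.1, d.2.1) := by
      obtain ⟨k, hk, hke⟩ := K.eq_image.le hX'
      obtain ⟨e, he, rfl⟩ := List.mem_map.mp hk
      have h' := h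
      simp only [orbitsOK, Bool.and_eq_true, List.all_eq_true] at h'
      have h2 := h'.2 e he
      rw [List.any_eq_true] at h2
      obtain ⟨d, hd, hde⟩ := h2
      refine ⟨d.2.1, List.mem_map.mpr ⟨d, hd, ?_⟩⟩
      rw [← hke, I.spec e he, Nat.eq_of_beq_eq_true hde]
    obtain ⟨u, hu1, hu2⟩ := (I.class_facts hgens h hn).2 (g⁻¹ • X) (g⁻¹ • Y) hX' hY' rfl hc
    refine ⟨g * u * g⁻¹, ?_, ?_⟩
    · rw [mul_smul, mul_smul, inv_smul_smul, hu1]
    · rw [mul_smul, mul_smul, hu2, smul_inv_smul]

theorem confKey_pts {p q : GolayPt} {o X : Finset GolayPt} :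
    confKey (p, q, o) X = ((if p ∈ X then 1 else 0) + 2 * (if q ∈ X then 1 else 0)) + 4 * (o ∩ X).card := rfl

/-! ### Conjugacy of configurations -/

theorem exists_map_list {L L' : List GolayPt} (hL : L.Nodup) (hL' : L'.Nodup) (h : L.length = L'.length)
    (h5 : L.length ≤ 5) : ∃ g : M24, L.map (g : Equiv.Perm GolayPt) = L' := by
  obtain ⟨g, hg, hgL⟩ := exists_map_eq hL hL' h h5
  exact ⟨⟨g, hg⟩, hgL⟩

theorem conj_one (x : GolayPt) : ∃ g : M24, g • baseOne = (x, x, ∅) := by
  obtain ⟨g, hg⟩ := exists_map_list (L := [pt 23]) (L' := [x]) (by simp) (by simp) rfl (by simp)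
  simp only [List.map_cons, List.map_nil, List.cons.injEq, and_true] at hg
  refine ⟨g, ?_⟩
  have h0 : decS 0 = (∅ : Finset GolayPt) := by decide +kernel
  rw [conf_smul]
  simp only [baseOne, confOf, h0, Finset.smul_finset_empty, hg]

theorem conj_two {p q : GolayPt} (hpq : p ≠ q) : ∃ g : M24, g • baseTwo = (p, q, ∅) := by
  obtain ⟨g, hg⟩ := exists_map_list (L := [pt 23, pt 0]) (L' := [p, q]) (by decide +kernel) (by simp [hpq]) rfl
    (by simp)
  simp only [List.map_cons, List.map_nil, List.cons.injEq, and_true] at hg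
  refine ⟨g, ?_⟩
  have h0 : decS 0 = (∅ : Finset GolayPt) := by decide +kernel
  rw [conf_smul]
  simp only [baseTwo, confOf, h0, Finset.smul_finset_empty, hg.1, hg.2]

theorem conj_duad {p q : GolayPt} (hpq : p ≠ q) {s : Finset GolayPt} (hs : s.card = 2) (hp : p ∉ s)
    (hq : q ∉ s) : ∃ g : M24, g • baseDuad = (p, q, s) := by
  obtain ⟨a, b, hab, rfl⟩ := Finset.card_eq_two.mp hs
  simp only [Finset.mem_insert, Finset.mem_singleton, not_or] at hp hq
  obtain ⟨g, hg⟩ := exists_map_list (L := [pt 23, pt 0, pt 1, pt 2]) (L' := [p, q, a, b]) (by decide +kernel)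
    (by simp [hpq, hab, hp, hq]) rfl (by simp)
  simp only [List.map_cons, List.map_nil, List.cons.injEq, and_true] at hg
  obtain ⟨h1, h2, h3, h4⟩ := hg
  refine ⟨g, ?_⟩
  have h0 : decS 6 = ({pt 1, pt 2} : Finset GolayPt) := by decide +kernel
  rw [conf_smul]
  simp only [baseDuad, confOf, h0, Finset.smul_finset_insert, Finset.smul_finset_singleton,
    Equiv.Perm.smul_def, h1, h2, h3, h4]

/-- An octad and a list of at most five of its points go to the reference octad and its first points. -/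
theorem exists_octad_list {o : Finset GolayPt} (ho : o ∈ octads) (L : List GolayPt) (hL : L.Nodup)
    (h5 : L.length ≤ 5) (hLo : ∀ p ∈ L, p ∈ o) :
    ∃ g : M24, (basePts.take L.length).map (g : Equiv.Perm GolayPt) = L ∧
      (g : Equiv.Perm GolayPt) • baseOctad = o := by
  classical
  obtain ⟨R, hR1, hR2, hR3⟩ := exists_list_subset (n := 5 - L.length) (s := o \ L.toFinset) (by
    rw [Finset.card_sdiff_of_subset (fun p hp => hLo p (List.mem_toFinset.mp hp)),
      List.toFinset_card_of_nodup hL, card_of_mem_octads ho]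
    omega)
  have hnd : (L ++ R).Nodup := by
    refine List.nodup_append.mpr ⟨hL, hR1, fun a ha b hb e => ?_⟩
    subst e
    exact (Finset.mem_sdiff.mp (hR3 a hb)).2 (List.mem_toFinset.mpr ha)
  obtain ⟨g, hg, hgL⟩ := exists_map_basePts (L ++ R) hnd (by simp [hR2]; omega)
  have hlen : (L ++ R).length = 5 := by simp [hR2]; omega
  rw [hlen] at hgL
  refine ⟨⟨g, hg⟩, ?_, ?_⟩
  · show (basePts.take L.length).map g = L
    have h1 := congrArg (List.take L.length) hgL
    rw [List.take_left, ← List.map_take, List.take_take, Nat.min_eq_left h5] at h1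
    exact h1
  · refine octad_eq_of_five_le (smul_mem_octads hg baseOctad_mem) ho ?_
    have hsub : (L ++ R).toFinset ⊆ (g • baseOctad) ∩ o := by
      intro p hp
      rw [List.mem_toFinset] at hp
      refine Finset.mem_inter.mpr ⟨?_, ?_⟩
      · rw [← hgL] at hp
        obtain ⟨u, hu, rfl⟩ := List.mem_map.mp hp
        exact Finset.mem_smul_finset.mpr
          ⟨u, basePts_subset_baseOctad u (List.take_subset_take_left _ (by norm_num) hu), rfl⟩
      · rcases List.mem_append.mp hp with h | h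
        · exact hLo p h
        · exact (Finset.mem_sdiff.mp (hR3 p h)).1
    have := Finset.card_le_card hsub
    rw [List.toFinset_card_of_nodup hnd, hlen] at this
    exact this

theorem conj_in {x : GolayPt} {o : Finset GolayPt} (ho : o ∈ octads) (hx : x ∈ o) :
    ∃ g : M24, g • baseIn = (x, x, o) := by
  obtain ⟨g, hg1, hg2⟩ := exists_octad_list ho [x] (by simp) (by simp) (by simpa)
  simp only [List.length_singleton, basePts, List.take_succ_cons, List.take_zero, List.map_cons,
    List.map_nil, List.cons.injEq, and_true] at hg1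
  refine ⟨g, ?_⟩
  rw [conf_smul]
  simp only [baseIn, confOf, show (pt 23 : GolayPt) = none by decide +kernel, ← baseOctad.eq_def, hg1, hg2]

theorem conj_inIn {p q : GolayPt} {o : Finset GolayPt} (ho : o ∈ octads) (hpq : p ≠ q) (hp : p ∈ o)
    (hq : q ∈ o) : ∃ g : M24, g • baseInIn = (p, q, o) := by
  obtain ⟨g, hg1, hg2⟩ := exists_octad_list ho [p, q] (by simp [hpq]) (by simp) (by simp [hp, hq])
  simp only [List.length_cons, List.length_nil, basePts, List.take_succ_cons, List.take_zero, List.map_cons,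
    List.map_nil, List.cons.injEq, and_true] at hg1
  refine ⟨g, ?_⟩
  rw [conf_smul]
  simp only [baseInIn, confOf, show (pt 23 : GolayPt) = none by decide +kernel,
    show (pt 0 : GolayPt) = some 0 by decide +kernel, ← baseOctad.eq_def, hg1.1, hg1.2, hg2]

theorem smul_conf_fix {g : M24} {p q : GolayPt} {o : Finset GolayPt} (h : g • ((p, q, o) : Conf) = (p, q, o)) :
    (g : Equiv.Perm GolayPt) p = p ∧ (g : Equiv.Perm GolayPt) q = q ∧ (g : Equiv.Perm GolayPt) • o = o := by
  rw [conf_smul] at h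
  simp only [Prod.mk.injEq] at h
  exact h

/-- One point: the facts. -/
theorem one_facts (x : GolayPt) :
    Facts octads confKey (unpackTable classesOne) (x, x, ∅) :=
  transfer confKey confKey_smul invOne (fun _ => rfl) gensOne_spec tableOne_ok (conj_one x)

/-- Two points: the facts. -/
theorem two_facts {p q : GolayPt} (hpq : p ≠ q) :
    Facts octads confKey (unpackTable classesTwo) (p, q, ∅) :=
  transfer confKey confKey_smul invTwo (fun _ => rfl) gensTwo_spec tableTwo_ok (conj_two hpq)

theorem conj_out {x : GolayPt} {o : Finset GolayPt} (ho : o ∈ octads) (hx : x ∉ o) :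
    ∃ g : M24, g • baseOut = (x, x, o) := by
  obtain ⟨h, hh⟩ := exists_map_list (L := [pt 4]) (L' := [x]) (by simp) (by simp) rfl (by simp)
  simp only [List.map_cons, List.map_nil, List.cons.injEq, and_true] at hh
  have h4 : pt 4 ∉ baseOctad := by decide +kernel
  set o₁ := (h : Equiv.Perm GolayPt) • baseOctad
  have hx1 : x ∉ o₁ := by
    rw [← hh]
    exact fun hm => h4 (Finset.smul_mem_smul_finset_iff (a := (h : Equiv.Perm GolayPt)) |>.mp hm)
  obtain ⟨g, hg, hgo⟩ := (one_facts x).2 o₁ o (smul_mem_octads h.2 baseOctad_mem) ho (by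
    simp [confKey_pts, hx, hx1])
  obtain ⟨hg1, -, -⟩ := smul_conf_fix hg
  refine ⟨g * h, ?_⟩
  rw [mul_smul, conf_smul h]
  simp only [baseOut, confOf, ← baseOctad.eq_def, hh]
  rw [conf_smul]
  simp only [hg1]
  exact congrArg (fun t => (x, x, t)) hgo

theorem conj_inOut {p q : GolayPt} {o : Finset GolayPt} (ho : o ∈ octads) (hp : p ∈ o) (hq : q ∉ o) :
    ∃ g : M24, g • baseInOut = (p, q, o) := by
  have hpq : p ≠ q := fun e => hq (e ▸ hp)
  obtain ⟨h, hh⟩ := exists_map_list (L := [pt 23, pt 4]) (L' := [p, q]) (by decide +kernel) (by simp [hpq]) rfl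
    (by simp)
  simp only [List.map_cons, List.map_nil, List.cons.injEq, and_true] at hh
  have h4 : pt 23 ∈ baseOctad ∧ pt 4 ∉ baseOctad := by decide +kernel
  set o₁ := (h : Equiv.Perm GolayPt) • baseOctad
  have hp1 : p ∈ o₁ := by rw [← hh.1]; exact Finset.smul_mem_smul_finset (a := (h : Equiv.Perm GolayPt)) h4.1
  have hq1 : q ∉ o₁ := by
    rw [← hh.2]
    exact fun hm => h4.2 (Finset.smul_mem_smul_finset_iff (a := (h : Equiv.Perm GolayPt)) |>.mp hm)
  obtain ⟨g, hg, hgo⟩ := (two_facts hpq).2 o₁ o (smul_mem_octads h.2 baseOctad_mem) ho (by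
    simp [confKey_pts, hp, hp1, hq, hq1])
  obtain ⟨hg1, hg2, -⟩ := smul_conf_fix hg
  refine ⟨g * h, ?_⟩
  rw [mul_smul, conf_smul h]
  simp only [baseInOut, confOf, ← baseOctad.eq_def, hh.1, hh.2]
  rw [conf_smul]
  simp only [hg1, hg2]
  exact congrArg (fun t => (p, q, t)) hgo

/-- A point of an octad. -/
theorem in_facts {x : GolayPt} {o : Finset GolayPt} (ho : o ∈ octads) (hx : x ∈ o) :
    Facts octads confKey (unpackTable classesIn) (x, x, o) :=
  transfer confKey confKey_smul invIn (fun _ => rfl) gensIn_spec tableIn_ok (conj_in ho hx)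

/-- A point outside an octad. -/
theorem out_facts {x : GolayPt} {o : Finset GolayPt} (ho : o ∈ octads) (hx : x ∉ o) :
    Facts octads confKey (unpackTable classesOut) (x, x, o) :=
  transfer confKey confKey_smul invOut (fun _ => rfl) gensOut_spec tableOut_ok (conj_out ho hx)

/-- Two points of an octad. -/
theorem inIn_facts {p q : GolayPt} {o : Finset GolayPt} (ho : o ∈ octads) (hpq : p ≠ q) (hp : p ∈ o)
    (hq : q ∈ o) :
    Facts octads confKey (unpackTable classesInIn) (p, q, o) :=
  transfer confKey confKey_smul invInIn (fun _ => rfl) gensInIn_spec tableInIn_ok (conj_inIn ho hpq hp hq)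

/-- A point of an octad and one outside. -/
theorem inOut_facts {p q : GolayPt} {o : Finset GolayPt} (ho : o ∈ octads) (hp : p ∈ o) (hq : q ∉ o) :
    Facts octads confKey (unpackTable classesInOut) (p, q, o) :=
  transfer confKey confKey_smul invInOut (fun _ => rfl) gensInOut_spec tableInOut_ok (conj_inOut ho hp hq)

/-- Two points and a duad. -/
theorem duad_facts {p q : GolayPt} (hpq : p ≠ q) {s : Finset GolayPt} (hs : s.card = 2) (hp : p ∉ s)
    (hq : q ∉ s) :
    Facts {t : Finset GolayPt | t.card = 2} duadKey (unpackTable classesDuad) (p, q, s) :=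
  transfer duadKey duadKey_smul invDuad (fun _ => rfl) gensDuad_spec tableDuad_ok (conj_duad hpq hs hp hq)

end CfsgLib.GolayPointed
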