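import Cfsg.Agent.Lib.GolayPointed.Bases

/-!
# Checked orbit tables for configurations
-/

set_option autoImplicit false
set_option maxRecDepth 20000

namespace CfsgLib.GolayPointed

open Cfsg CfsgLib.Golay
open scoped Pointwise

/-- One point. -/
def baseOne : Conf := confOf 23 23 0
/-- Two points. -/
def baseTwo : Conf := confOf 23 0 0
/-- A point of an octad. -/
def baseIn : Conf := confOf 23 23 8536111
/-- A point outside an octad. -/
def baseOut : Conf := confOf 4 4 8536111
/-- Two points of an octad. -/
def baseInIn : Conf := confOf 23 0 8536111
/-- A point of an octad and one outside. -/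
def baseInOut : Conf := confOf 23 4 8536111

/-- The invariant for a point. -/
def invOne : Invariant octK baseOne := invConfOct 23 23 0 (by norm_num)
/-- The invariant for two points. -/
def invTwo : Invariant octK baseTwo := invConfOct 23 0 0 (by norm_num)
/-- The invariant for a point of an octad. -/
def invIn : Invariant octK baseIn := invConfOct 23 23 8536111 (by norm_num)
/-- The invariant for a point outside an octad. -/
def invOut : Invariant octK baseOut := invConfOct 4 4 8536111 (by norm_num)
/-- The invariant for two points of an octad. -/
def invInIn : Invariant octK baseInIn := invConfOct 23 0 8536111 (by norm_num)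
/-- The invariant for a point of an octad and one outside. -/
def invInOut : Invariant octK baseInOut := invConfOct 23 4 8536111 (by norm_num)

theorem gensOne_spec : ∀ l ∈ gensOne, ∃ g : M24, toList (g : Equiv.Perm GolayPt) = l ∧ g • baseOne = baseOne :=
  exists_gen (fixConf_spec 23 23 0 (by norm_num)) (by decide +kernel)
theorem gensTwo_spec : ∀ l ∈ gensTwo, ∃ g : M24, toList (g : Equiv.Perm GolayPt) = l ∧ g • baseTwo = baseTwo :=
  exists_gen (fixConf_spec 23 0 0 (by norm_num)) (by decide +kernel)
theorem gensIn_spec : ∀ l ∈ gensIn, ∃ g : M24, toList (g : Equiv.Perm GolayPt) = l ∧ g • baseIn = baseIn :=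
  exists_gen (fixConf_spec 23 23 8536111 (by norm_num)) (by decide +kernel)
theorem gensOut_spec : ∀ l ∈ gensOut, ∃ g : M24, toList (g : Equiv.Perm GolayPt) = l ∧ g • baseOut = baseOut :=
  exists_gen (fixConf_spec 4 4 8536111 (by norm_num)) (by decide +kernel)
theorem gensInIn_spec : ∀ l ∈ gensInIn, ∃ g : M24, toList (g : Equiv.Perm GolayPt) = l ∧ g • baseInIn = baseInIn :=
  exists_gen (fixConf_spec 23 0 8536111 (by norm_num)) (by decide +kernel)
theorem gensInOut_spec :
    ∀ l ∈ gensInOut, ∃ g : M24, toList (g : Equiv.Perm GolayPt) = l ∧ g • baseInOut = baseInOut :=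
  exists_gen (fixConf_spec 23 4 8536111 (by norm_num)) (by decide +kernel)
theorem gensDuad_spec : ∀ l ∈ gensDuad, ∃ g : M24, toList (g : Equiv.Perm GolayPt) = l ∧ g • baseDuad = baseDuad :=
  exists_gen (fixConf_spec 23 0 6 (by norm_num)) (by decide +kernel)

theorem tableOne_ok :
    orbitsOK octK.W octK.key invOne.kφ octK.step gensOne (unpackTable classesOne) = true := by decide +kernel
theorem tableTwo_ok :
    orbitsOK octK.W octK.key invTwo.kφ octK.step gensTwo (unpackTable classesTwo) = true := by decide +kernel
theorem tableIn_ok :
    orbitsOK octK.W octK.key invIn.kφ octK.step gensIn (unpackTable classesIn) = true := by decide +kernel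
theorem tableOut_ok :
    orbitsOK octK.W octK.key invOut.kφ octK.step gensOut (unpackTable classesOut) = true := by decide +kernel
theorem tableInIn_ok :
    orbitsOK octK.W octK.key invInIn.kφ octK.step gensInIn (unpackTable classesInIn) = true := by decide +kernel
theorem tableInOut_ok :
    orbitsOK octK.W octK.key invInOut.kφ octK.step gensInOut (unpackTable classesInOut) = true := by decide +kernel
theorem tableDuad_ok :
    orbitsOK pairK.W pairK.key invDuad.kφ pairK.step gensDuad (unpackTable classesDuad) = true := by decide +kernel

end CfsgLib.GolayPointed
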